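import Cfsg.Agent.H122.MinDeg
import Cfsg.Agent.H123.CycTI

/-!
# Cyclic Sylow subgroups and the degrees of the complex representations (S2351): the interface

* `Row p G` : a cyclic Sylow `p`-subgroup `P` of `G` satisfies `|P| ≤ d + 2` for the degree `d` of every nontrivial complex
  representation;
* `Row.of_pelt` : it is enough to bound the order of the `p`-elements;
* `pelt_of_surjective` : lifting of `p`-elements along a surjection;
* `Row.of_card`, `Row.of_nc`, `Row.congr`, `MinDeg.of_hom` (restriction to a subgroup).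
-/

set_option autoImplicit false
set_option linter.unusedSectionVars false

namespace Cfsg.Agent.H121.Cyc

open Module Cfsg.Agent.H122

/-- the bound `|P| ≤ d + 2` for a cyclic Sylow `p`-subgroup -/
def Row (p : ℕ) (G : Type*) [Group G] : Prop :=
  ∀ P : Sylow p G, IsCyclic ↥(P : Subgroup G) → MinDeg G (Nat.card ↥(P : Subgroup G) - 2)

/-- no Sylow `p`-subgroup is cyclic -/
theorem Row.of_nc {p : ℕ} {G : Type*} [Group G] (h : ∀ P : Sylow p G, ¬ IsCyclic ↥(P : Subgroup G)) : Row p G :=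
  fun P hP => absurd hP (h P)

theorem Row.congr {p : ℕ} {G H : Type*} [Group G] [Group H] (h : Row p G) (e : G ≃* H) : Row p H := by
  intro P hP
  have hrange : (P : Subgroup H) ≤ e.toMonoidHom.range := fun y _ => ⟨e.symm y, e.apply_symm_apply y⟩
  let P' : Sylow p G := P.comapOfInjective e.toMonoidHom e.injective hrange
  have hP' : ∀ y, y ∈ P' ↔ e y ∈ P := fun y => Iff.rfl
  let f : ↥(P' : Subgroup G) ≃ ↥(P : Subgroup H) :=
    { toFun := fun y => ⟨e y, (hP' y).1 y.2⟩
      invFun := fun y => ⟨e.symm y, (hP' _).2 (by rw [e.apply_symm_apply]; exact y.2)⟩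
      left_inv := fun y => Subtype.ext (e.symm_apply_apply _)
      right_inv := fun y => Subtype.ext (e.apply_symm_apply _) }
  let f' : ↥(P' : Subgroup G) ≃* ↥(P : Subgroup H) := { f with map_mul' := fun a b => Subtype.ext (map_mul e _ _) }
  have hc : IsCyclic ↥(P' : Subgroup G) := isCyclic_of_injective f'.toMonoidHom f'.injective
  rw [← Nat.card_congr f]
  exact (h P' hc).congr e

/-- a bound for the orders of the `p`-elements -/
theorem Row.of_pelt {p : ℕ} [hp : Fact p.Prime] {G : Type*} [Group G] [Finite G] {b : ℕ} (hb : MinDeg G b)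
    (h : ∀ (g : G) (a : ℕ), orderOf g = p ^ a → p ^ a ≤ b + 2) : Row p G := by
  intro P hP
  obtain ⟨g, hg⟩ := hP.exists_generator
  have h1 : orderOf (g : G) = Nat.card ↥(P : Subgroup G) := by
    rw [Subgroup.orderOf_coe]
    exact orderOf_eq_card_of_forall_mem_zpowers hg
  obtain ⟨a, ha⟩ := IsPGroup.iff_orderOf.1 P.2 g
  rw [Subgroup.orderOf_coe] at h1
  rw [← h1, ha]
  refine hb.mono ?_
  have := h (g : G) a (by rw [Subgroup.orderOf_coe, ha])
  omega

/-- a bound for the order of the Sylow subgroups -/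
theorem Row.of_card {p : ℕ} {G : Type*} [Group G] {b : ℕ} (hb : MinDeg G b)
    (h : ∀ P : Sylow p G, Nat.card ↥(P : Subgroup G) ≤ b + 2) : Row p G := by
  intro P _
  exact hb.mono (by have := h P; omega)

/-- a bound for `|G|_p` -/
theorem Row.of_not_dvd {p : ℕ} [Fact p.Prime] {G : Type*} [Group G] [Finite G] {b a : ℕ} (hb : MinDeg G b)
    (h : ¬ p ^ (a + 1) ∣ Nat.card G) (ha : p ^ a ≤ b + 2) : Row p G := by
  refine Row.of_card hb fun P => ?_
  obtain ⟨n, hn⟩ := IsPGroup.iff_card.1 P.2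
  have h1 : p ^ n ∣ Nat.card G := by rw [← hn]; exact Subgroup.card_subgroup_dvd_card _
  have h2 : n ≤ a := by
    by_contra hcon
    exact h ((pow_dvd_pow p (by omega)).trans h1)
  rw [hn]
  exact (Nat.pow_le_pow_right (Nat.Prime.pos Fact.out) h2).trans ha

/-- every nontrivial representation has degree at least one -/
theorem minDeg_one (G : Type*) [Group G] : MinDeg G 1 := by
  intro M _ _ _ ρ hρ
  rw [Nat.one_le_iff_ne_zero]
  intro h0
  obtain ⟨g, hg⟩ := hρ
  have := finrank_zero_iff.1 h0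
  exact hg (LinearMap.ext fun v => Subsingleton.elim _ _)

theorem Row.of_le_three {p : ℕ} [Fact p.Prime] {G : Type*} [Group G] [Finite G] (h : p ≤ 3) (h2 : ¬ p ^ 2 ∣ Nat.card G) :
    Row p G :=
  Row.of_not_dvd (a := 1) (minDeg_one G) h2 (by simpa using h)

/-- restriction along a homomorphism with simple target and nontrivial image -/
theorem MinDeg.of_hom {H G : Type*} [Group H] [Group G] [IsSimpleGroup G] {b : ℕ} (h : MinDeg H b) (f : H →* G)
    (hf : ∃ x, f x ≠ 1) : MinDeg G b := by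
  intro M _ _ _ ρ hρ
  obtain ⟨x, hx⟩ := hf
  exact h M (ρ.comp f) ⟨x, Cfsg.Agent.H121.Chr.faithful ρ hρ hx⟩

theorem MinDeg.of_subgroup {G : Type*} [Group G] [IsSimpleGroup G] {b : ℕ} {H : Subgroup G} (h : MinDeg ↥H b)
    (hH : H ≠ ⊥) : MinDeg G b := by
  refine MinDeg.of_hom h H.subtype ?_
  by_contra hcon
  push Not at hcon
  exact hH ((Subgroup.eq_bot_iff_forall _).2 fun x hx => hcon ⟨x, hx⟩)

/-- lifting a `p`-element along a surjection -/
theorem exists_pelt {p : ℕ} [hp : Fact p.Prime] {H G : Type*} [Group H] [Finite H] [Group G] {f : H →* G}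
    (hf : Function.Surjective f) {g : G} {a : ℕ} (hg : orderOf g = p ^ a) :
    ∃ (x : H) (c : ℕ), f x = g ∧ orderOf x = p ^ c ∧ a ≤ c := by
  obtain ⟨y, rfl⟩ := hf g
  obtain ⟨c, m, hm, hc⟩ : ∃ c m : ℕ, ¬ p ∣ m ∧ orderOf y = p ^ c * m :=
    Nat.exists_eq_pow_mul_and_not_dvd (orderOf_pos y).ne' p hp.out.ne_one
  -- `z = y ^ m` is a `p`-element, `f y` is a power of `f z`
  have hcop : m.Coprime (p ^ a) := ((Nat.Prime.coprime_iff_not_dvd hp.out).2 hm).symm.pow_right a
  obtain ⟨k, hk⟩ : ∃ k : ℕ, (f y) ^ (m * k) = f y := by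
    by_cases h1 : p ^ a = 1
    · rw [h1, orderOf_eq_one_iff] at hg
      exact ⟨0, by rw [mul_zero, pow_zero, hg]⟩
    · have h2 : 1 < p ^ a := by
        have := Nat.pos_of_ne_zero (pow_ne_zero a hp.out.ne_zero)
        omega
      obtain ⟨k, hk⟩ := Nat.exists_mul_mod_eq_one_of_coprime hcop h2
      refine ⟨k, ?_⟩
      have h3 := hk.2
      rw [← pow_mod_orderOf, hg, h3, pow_one]
  have hz : orderOf (y ^ m) = p ^ c := by
    rw [orderOf_pow, hc, Nat.gcd_eq_right (dvd_mul_left m _), Nat.mul_div_cancel _ (Nat.pos_of_ne_zero (by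
      rintro rfl; exact hm (dvd_zero p)))]
  obtain ⟨c', hc', hc2⟩ := (Nat.dvd_prime_pow hp.out).1 (hz ▸ orderOf_pow_dvd (x := y ^ m) k)
  refine ⟨(y ^ m) ^ k, c', ?_, hc2, ?_⟩
  · rw [← pow_mul, map_pow, hk]
  · have h4 : p ^ a ∣ p ^ c' := by
      rw [← hg, ← hc2]
      have : f ((y ^ m) ^ k) = f y := by rw [← pow_mul, map_pow, hk]
      rw [← this]
      exact orderOf_map_dvd f _
    exact (Nat.pow_dvd_pow_iff_le_right hp.out.one_lt).1 h4

/-- the bound for the `p`-elements of a central extension is enough -/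
theorem Row.of_surjective {p : ℕ} [hp : Fact p.Prime] {H G : Type*} [Group H] [Finite H] [Group G] [Finite G]
    {f : H →* G} (hf : Function.Surjective f) {b : ℕ} (hb : MinDeg G b)
    (h : ∀ (x : H) (a : ℕ), orderOf x = p ^ a → p ^ a ≤ b + 2) : Row p G := by
  refine Row.of_pelt hb fun g a hg => ?_
  obtain ⟨x, c, -, hx, hac⟩ := exists_pelt hf hg
  exact (Nat.pow_le_pow_right hp.out.pos hac).trans (h x c hx)

end Cfsg.Agent.H121.Cyc
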