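import Cfsg.Agent.H121.Cyc.Base

/-!
# Cyclic Sylow subgroups of order divisible by `p ^ 2` (S2351)

For the generic groups of Lie type the case `|P| = p` is done uniformly (Brauer's theory of blocks of defect one and the
Steinberg character, `Cyc/Prime.lean`); so `RowS p G` is enough: only cyclic `P` with `p ^ 2 ∣ |P|`.
-/

set_option autoImplicit false
set_option linter.unusedSectionVars false

namespace Cfsg.Agent.H121.Cyc

open Module Cfsg.Agent.H122

/-- the bound `|P| ≤ d + 2` for a cyclic Sylow `p`-subgroup of order at least `p ^ 2` -/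
def RowS (p : ℕ) (G : Type*) [Group G] : Prop :=
  ∀ P : Sylow p G, IsCyclic ↥(P : Subgroup G) → p ^ 2 ∣ Nat.card ↥(P : Subgroup G) →
    MinDeg G (Nat.card ↥(P : Subgroup G) - 2)

theorem Row.rowS {p : ℕ} {G : Type*} [Group G] (h : Row p G) : RowS p G := fun P hP _ => h P hP

theorem RowS.of_nc {p : ℕ} {G : Type*} [Group G] (h : ∀ P : Sylow p G, ¬ IsCyclic ↥(P : Subgroup G)) : RowS p G :=
  (Row.of_nc h).rowS

theorem RowS.of_not_sq {p : ℕ} {G : Type*} [Group G] (h : ¬ p ^ 2 ∣ Nat.card G) : RowS p G :=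
  fun P _ hd => absurd (hd.trans (Subgroup.card_subgroup_dvd_card _)) h

theorem RowS.congr {p : ℕ} {G H : Type*} [Group G] [Group H] (h : RowS p G) (e : G ≃* H) : RowS p H := by
  intro P hP hd
  have hrange : (P : Subgroup H) ≤ e.toMonoidHom.range := fun y _ => ⟨e.symm y, e.apply_symm_apply y⟩
  let P' : Sylow p G := P.comapOfInjective e.toMonoidHom e.injective hrange
  have hP' : ∀ y, y ∈ P' ↔ e y ∈ P := fun y => Iff.rfl
  let f : ↥(P' : Subgroup G) ≃ ↥(P : Subgroup H) :=
    { toFun := fun y => ⟨e y, (hP' y).1 y.2⟩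
      invFun := fun y => ⟨e.symm y, (hP' _).2 (by rw [e.apply_symm_apply]; exact y.2)⟩
      left_inv := fun y => Subtype.ext (e.symm_apply_apply _)
      right_inv := fun y => Subtype.ext (e.apply_symm_apply _) }
  let f' : ↥(P' : Subgroup G) ≃* ↥(P : Subgroup H) := { f with map_mul' := fun a b => Subtype.ext (map_mul e _ _) }
  have hc : IsCyclic ↥(P' : Subgroup G) := isCyclic_of_injective f'.toMonoidHom f'.injective
  rw [← Nat.card_congr f] at hd ⊢
  exact (h P' hc hd).congr e

/-- a bound for the orders `p ^ a`, `2 ≤ a`, of the elements -/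
theorem RowS.of_pelt {p : ℕ} [hp : Fact p.Prime] {G : Type*} [Group G] [Finite G] {b : ℕ} (hb : MinDeg G b)
    (h : ∀ (g : G) (a : ℕ), 2 ≤ a → orderOf g = p ^ a → p ^ a ≤ b + 2) : RowS p G := by
  intro P hP hd
  obtain ⟨g, hg⟩ := hP.exists_generator
  have h1 : orderOf (g : G) = Nat.card ↥(P : Subgroup G) := by
    rw [Subgroup.orderOf_coe]
    exact orderOf_eq_card_of_forall_mem_zpowers hg
  obtain ⟨a, ha⟩ := IsPGroup.iff_orderOf.1 P.2 g
  rw [Subgroup.orderOf_coe] at h1
  have ha2 : 2 ≤ a := by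
    rw [← h1, ha] at hd
    exact (Nat.pow_dvd_pow_iff_le_right hp.out.one_lt).1 hd
  rw [← h1, ha]
  refine hb.mono ?_
  have := h (g : G) a ha2 (by rw [Subgroup.orderOf_coe, ha])
  omega

/-- from a cover `H → G` -/
theorem RowS.of_surjective {p : ℕ} [hp : Fact p.Prime] {H G : Type*} [Group H] [Finite H] [Group G] [Finite G]
    {f : H →* G} (hf : Function.Surjective f) {b : ℕ} (hb : MinDeg G b)
    (h : ∀ (x : H) (a : ℕ), 2 ≤ a → orderOf x = p ^ a → p ^ a ≤ b + 2) : RowS p G := by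
  refine RowS.of_pelt hb fun g a ha2 hg => ?_
  obtain ⟨x, c, -, hx, hac⟩ := exists_pelt hf hg
  exact (Nat.pow_le_pow_right hp.out.pos hac).trans (h x c (ha2.trans hac) hx)

end Cfsg.Agent.H121.Cyc
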