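import Cfsg.Agent.H121.Cyc.Sq
import Cfsg.Agent.H607.Feit.Plus
import Cfsg.Agent.H655.Numbers

/-!
# Sylow subgroups of prime order and representations of small degree (S2351)

`G` simple nonabelian, `P` a Sylow `p`-subgroup of order `p ≥ 7`, `σ` an irreducible nontrivial representation of degree
`n < p - 1`.  Then `G ≅ PSL(2, p)` or `n = p - E` with the numerical conditions `H655.Numbers.Num`.
-/

set_option autoImplicit false
set_option linter.unusedSectionVars false

namespace Cfsg.Agent.H121.Cyc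

open Module Subgroup Cfsg Cfsg.Agent.H122
open scoped commutatorElement
open Cfsg.Agent.H655.Numbers
open Cfsg.Agent.SmallSimple.ThetaSetup

universe u v

theorem commutator_top {G : Type*} [Group G] [IsSimpleGroup G] (hna : ¬ IsMulCommutative G) : commutator G = ⊤ := by
  rcases (inferInstance : (commutator G).Normal).eq_bot_or_eq_top with h | h
  · exfalso
    apply hna
    refine ⟨⟨fun a b => ?_⟩⟩
    have h1 : ⁅a, b⁆ ∈ commutator G := commutator_mem_commutator (mem_top a) (mem_top b)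
    rw [h, mem_bot] at h1
    exact commutatorElement_eq_one_iff_mul_comm.1 h1
  · exact h

theorem center_bot {G : Type*} [Group G] [IsSimpleGroup G] (hna : ¬ IsMulCommutative G) : center G = ⊥ := by
  rcases (inferInstance : (center G).Normal).eq_bot_or_eq_top with h | h
  · exact h
  · exfalso
    apply hna
    refine ⟨⟨fun a b => ?_⟩⟩
    have h1 : a ∈ center G := by rw [h]; exact mem_top a
    exact (mem_center_iff.1 h1 b).symm

/-- `G ≃ G / Z(G)` -/
noncomputable def quoEquiv {G : Type*} [Group G] [IsSimpleGroup G] (hna : ¬ IsMulCommutative G) : G ≃* G ⧸ center G :=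
  MulEquiv.ofBijective (QuotientGroup.mk' (center G)) ⟨by
    rw [← MonoidHom.ker_eq_bot_iff, QuotientGroup.ker_mk', center_bot hna], QuotientGroup.mk'_surjective _⟩

theorem not_normal {G : Type*} [Group G] [Finite G] [IsSimpleGroup G] (hna : ¬ IsMulCommutative G) {p : ℕ}
    [hp : Fact p.Prime] (P : Sylow p G) (hP : Nat.card P = p) : ¬ (P : Subgroup G).Normal := by
  intro h
  rcases h.eq_bot_or_eq_top with h1 | h1
  · have h2 : Nat.card (P : Subgroup G) = p := hP
    rw [h1, Subgroup.card_bot] at h2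
    exact hp.out.one_lt.ne h2
  · have h2 : Nat.card (P : Subgroup G) = p := hP
    rw [h1, Subgroup.card_top] at h2
    have h3 : IsCyclic G := isCyclic_of_prime_card h2
    exact hna IsCyclic.isMulCommutative

theorem apply_one_fin {G : Type*} [Group G] {n : ℕ} (σ : Representation ℂ G (Fin n → ℂ)) : σ.character 1 = n := by
  rw [Representation.char_one, finrank_fin_fun]

/-- **The dichotomy for simple groups.** -/
theorem small {G : Type u} [Group G] [Finite G] [IsSimpleGroup G] (hna : ¬ IsMulCommutative G) {p : ℕ}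
    [hp : Fact p.Prime] (hp7 : 7 ≤ p) (P : Sylow p G) (hP : Nat.card P = p) {n : ℕ}
    (σ : Representation ℂ G (Fin n → ℂ)) (hσ : σ.IsIrreducible) (hne : ∃ g, σ g ≠ 1) (hn : n < p - 1) :
    Nonempty (G ≃* Matrix.ProjectiveSpecialLinearGroup (Fin 2) (ZMod p)) ∨
      ∃ E t : ℕ, n = p - E ∧ Num (G ⧸ center G) p E t := by
  classical
  obtain ⟨g0, hg0⟩ := hne
  have hζ : IsIrrCharacter G σ.character := ⟨n, σ, hσ, rfl⟩
  let ζ : IrrCharacter G := ⟨σ.character, hζ⟩
  have hfaith : ∀ g : G, (ζ : G → ℂ) g = (ζ : G → ℂ) 1 → g = 1 := by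
    intro g hg
    by_contra hg1
    have h1 : σ g = 1 := by
      change σ.character g = σ.character 1 at hg
      rw [Representation.char_one] at hg
      exact (Cfsg.Agent.Characters.Values.character_eq_finrank_iff σ g).1 hg
    exact Cfsg.Agent.H121.Chr.faithful σ ⟨g0, hg0⟩ hg1 h1
  have hnn := not_normal hna P hP
  have hperf := commutator_top hna
  obtain ⟨K, hK⟩ := exists_isComp P hP
  have hn1 : (ζ : G → ℂ) 1 = n := apply_one_fin σ
  rcases Cfsg.Agent.H655.Dichotomy.dichotomy hK hP hn1 hn with h | ⟨E, t, h | h⟩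
  · exfalso
    obtain ⟨x, hx, hx1⟩ := Cfsg.Agent.H607.Feit.Plus.exists_mem hP
    exact hx1 (hfaith x (h x hx))
  · right
    refine ⟨E, t, ?_, num hperf hK hP hnn h hfaith⟩
    have h1 := hn1.symm.trans h.deg
    exact_mod_cast h1
  · left
    have hdeg : charDegree (ζ : G → ℂ) = n := by
      unfold charDegree
      rw [hn1, Complex.natCast_re, Nat.floor_natCast]
    obtain ⟨-, -, -, ⟨e⟩⟩ := Cfsg.Agent.H607.Feit.Plus.main hp7 hP hnn hfaith h (by rw [hdeg]; exact hn)
    exact ⟨(quoEquiv hna).trans e⟩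

/-- the bound for irreducible representations on `Fin k → ℂ` (copied from helper122) -/
theorem minDeg_of_fin {G : Type*} [Group G] [Finite G] (hG : commutator G = ⊤) {b : ℕ}
    (h : ∀ (k : ℕ) (ρ : Representation ℂ G (Fin k → ℂ)), ρ.IsIrreducible → 2 ≤ k → b ≤ k) : MinDeg G b := by
  apply minDeg_of_irr
  intro M _ _ _ ρ hirr hρ
  have h1 := Cfsg.Agent.Characters.Core.isIrreducible_transportRep (Module.finBasis ℂ M).equivFun hirr
  refine h (finrank ℂ M) _ h1 ?_
  by_contra hcon
  have h2 : finrank ℂ M ≤ 1 := by omega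
  obtain ⟨v0, hv0⟩ := finrank_le_one_iff.1 h2
  obtain ⟨g, hg⟩ := hρ
  apply hg
  -- the endomorphisms commute
  have hc : ∀ x y : G, ρ x * ρ y = ρ y * ρ x := by
    intro x y
    apply LinearMap.ext
    intro v
    obtain ⟨a, ha⟩ := hv0 (ρ x v0)
    obtain ⟨b, hb⟩ := hv0 (ρ y v0)
    obtain ⟨c, rfl⟩ := hv0 v
    show ρ x (ρ y (c • v0)) = ρ y (ρ x (c • v0))
    rw [map_smul, map_smul, map_smul, map_smul, ← ha, ← hb, map_smul, map_smul, ← ha, ← hb, smul_comm a b v0]
  have hk : commutator G ≤ MonoidHom.ker (ρ : G →* Module.End ℂ M) := by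
    rw [_root_.commutator_def, Subgroup.commutator_le]
    intro x _ y _
    rw [MonoidHom.mem_ker, commutatorElement_def, map_mul, map_mul, map_mul]
    have e1 : ρ x * ρ y * ρ x⁻¹ * ρ y⁻¹ = ρ y * ρ x * ρ x⁻¹ * ρ y⁻¹ := by rw [hc x y]
    have e2 : ρ x * ρ x⁻¹ = 1 := by rw [← map_mul, mul_inv_cancel, map_one]
    have e3 : ρ y * ρ y⁻¹ = 1 := by rw [← map_mul, mul_inv_cancel, map_one]
    show ρ x * ρ y * ρ x⁻¹ * ρ y⁻¹ = 1
    rw [e1, mul_assoc (ρ y), e2, mul_one, e3]
  rw [hG] at hk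
  exact MonoidHom.mem_ker.1 (hk (Subgroup.mem_top g))

theorem exists_ne_one' {G : Type*} [Group G] {k : ℕ} (ρ : Representation ℂ G (Fin k → ℂ)) (hρ : ρ.IsIrreducible)
    (hk : 2 ≤ k) : ∃ g, ρ g ≠ 1 := Cfsg.Agent.H121.Chr.exists_ne_one ρ hρ hk

/-- the Sylow subgroups of order `p` -/
theorem card_of_dvd {G : Type*} [Group G] [Finite G] {p : ℕ} [hp : Fact p.Prime] (h1 : p ∣ Nat.card G)
    (h2 : ¬ p ^ 2 ∣ Nat.card G) (P : Sylow p G) : Nat.card P = p := by
  rw [P.card_eq_multiplicity]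
  have h3 : (Nat.card G).factorization p = 1 := by
    have h4 : (Nat.card G).factorization p ≠ 0 := by
      rw [Ne, Nat.factorization_eq_zero_iff]
      push Not
      exact ⟨hp.out, h1, Nat.card_pos.ne'⟩
    have h5 : (Nat.card G).factorization p < 2 := by
      by_contra h6
      exact h2 ((hp.out.pow_dvd_iff_le_factorization Nat.card_pos.ne').2 (not_lt.1 h6))
    omega
  rw [h3, pow_one]

theorem not_sq_of_card {G : Type*} [Group G] [Finite G] {p : ℕ} [hp : Fact p.Prime] {P : Sylow p G}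
    (hP : Nat.card P = p) : ¬ p ^ 2 ∣ Nat.card G := by
  have hcp : Nat.card P = p ^ (Nat.card G).factorization p := P.card_eq_multiplicity
  intro h
  have h2 := (hp.out.pow_dvd_iff_le_factorization Nat.card_pos.ne').1 h
  rw [hP] at hcp
  have h3 : p ^ 2 ≤ p ^ (Nat.card G).factorization p := Nat.pow_le_pow_right hp.out.pos h2
  rw [← hcp, sq] at h3
  have h4 := Nat.mul_lt_mul_of_pos_left hp.out.one_lt hp.out.pos
  omega

/-- Brauer: `2 n < p` only for `PSL(2, p)`. -/
theorem half {G : Type u} [Group G] [Finite G] [IsSimpleGroup G] (hna : ¬ IsMulCommutative G) {p : ℕ}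
    [hp : Fact p.Prime] (P : Sylow p G) (hP : Nat.card P = p) {n : ℕ}
    (σ : Representation ℂ G (Fin n → ℂ)) (hne : ∃ g, σ g ≠ 1) (hn : 2 * n < p) :
    Nonempty (G ≃* Matrix.ProjectiveSpecialLinearGroup (Fin 2) (ZMod p)) := by
  classical
  obtain ⟨g0, hg0⟩ := hne
  have hσ : Function.Injective σ := by
    rw [injective_iff_map_eq_one]
    intro g hg
    by_contra hg1
    exact Cfsg.Agent.H121.Chr.faithful σ ⟨g0, hg0⟩ hg1 hg
  obtain ⟨-, ⟨e⟩⟩ := Cfsg.Agent.H607.Ordinary.main p σ hσ (not_sq_of_card hP) P hP (not_normal hna P hP) hn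
  exact ⟨(quoEquiv hna).trans e⟩

/-- **Reduction to the numerical conditions**: `P` of order `p`, `p` odd. -/
theorem minDeg_prime {G : Type u} [Group G] [Finite G] [IsSimpleGroup G] (hna : ¬ IsMulCommutative G) {p : ℕ}
    [hp : Fact p.Prime] (hp2 : p ≠ 2) (P : Sylow p G) (hP : Nat.card P = p)
    (hL : ¬ Nonempty (G ≃* Matrix.ProjectiveSpecialLinearGroup (Fin 2) (ZMod p)))
    (h : 7 ≤ p → ∀ (n : ℕ) (σ : Representation ℂ G (Fin n → ℂ)), σ.IsIrreducible → 2 ≤ n → n < p - 2 → False) :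
    MinDeg G (p - 2) := by
  refine minDeg_of_fin (commutator_top hna) fun n σ hσ hn2 => ?_
  by_contra hcon
  have hpp := hp.out
  rcases (show p ≤ 4 ∨ p = 5 ∨ p = 6 ∨ 7 ≤ p by omega) with h1 | h1 | h1 | h1
  · omega
  · exact hL (half hna P hP σ (exists_ne_one' σ hσ hn2) (by omega))
  · rw [h1] at hpp
    exact absurd hpp (by norm_num)
  · exact h h1 n σ hσ hn2 (by omega)

end Cfsg.Agent.H121.Cyc
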