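import Cfsg.Agent.H121.Cyc.PrimeAll
import Cfsg.Agent.H123.SpAll
import Cfsg.Agent.H123.RowPSp
import Cfsg.Agent.H123.RowPSU
import Cfsg.Agent.H120.Cyc.Rows
import Cfsg.Agent.H122.Cyc.Rows
import Cfsg.Agent.H124.Cyc.RowPSL
import Cfsg.Agent.H120.Cyc.TwD4
import Cfsg.Agent.H120.Cyc.TwE6
import Cfsg.Agent.H122.Cyc.SzRow
import Cfsg.Agent.H122.Cyc.ReeRow
import Cfsg.Agent.H122.Cyc.TwF4Row
import Cfsg.Agent.SmallSimple.EvenOrder
import Cfsg.Agent.Characters.Core

/-!
# S2351: the assembly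
-/

set_option autoImplicit false
set_option linter.unusedSectionVars false

namespace Cfsg.Agent.H121.Cyc

open Module Subgroup Cfsg Cfsg.Agent.H122

universe u

theorem rowS_of_nc_or {p : ℕ} {G : Type u} [Group G] (h : Cfsg.Agent.H123.SpNC.NC p G ∨ ¬ p ^ 2 ∣ Nat.card G) :
    RowS p G := by
  rcases h with h | h
  · exact RowS.of_nc h
  · exact RowS.of_not_sq h

theorem rowS_all {G : Type u} [Group G] [Finite G] [IsSimpleGroup G] (hna : ¬ IsMulCommutative G) {p : ℕ}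
    [Fact p.Prime] (hp2 : p ≠ 2) (h : IsKnownSimple' G) : RowS p G := by
  rcases h with h | h | h | h | h | h | h | h | h | h
  · exfalso
    have : Fact (Nat.card G).Prime := ⟨h⟩
    have : IsCyclic G := isCyclic_of_prime_card (p := Nat.card G) rfl
    exact hna (IsCyclic.isMulCommutative (α := G))
  · exact (Cfsg.Agent.H123.AltRow.row_alt hp2 h).rowS
  · exact Cfsg.Agent.H124.RowPSL.rowS_psl hp2 h
  · exact Cfsg.Agent.H123.RowPSp.rowS_psp hp2 h
  · exact (Cfsg.Agent.H123.RowPSU.row_psu hp2 hna h).rowS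
  · exact Cfsg.Agent.H122.Cyc.rowS_omegaOdd hp2 h
  · exact Cfsg.Agent.H122.Cyc.rowS_omegaPlus hp2 h
  · exact Cfsg.Agent.H122.Cyc.rowS_omegaMinus hp2 h
  · rcases h with h | h | h | h | h | h | h | h | h | h | h
    · exact (Cfsg.Agent.H120.CycExc.row_g2 hp2 h).rowS
    · exact (Cfsg.Agent.H120.CycExc.row_f4 hp2 h).rowS
    · exact (Cfsg.Agent.H120.CycExc.row_e6 hp2 h).rowS
    · exact (Cfsg.Agent.H120.CycExc.row_e7 hp2 h).rowS
    · exact (Cfsg.Agent.H120.CycExc.row_e8 hp2 h).rowS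
    · exact (Cfsg.Agent.H120.CycExc.row_te6 hp2 h).rowS
    · exact (Cfsg.Agent.H120.CycExc.row_td4 hp2 h).rowS
    · exact Cfsg.Agent.H122.Cyc.rowS_sz hp2 h
    · exact Cfsg.Agent.H122.Cyc.rowS_ree h
    · exact Cfsg.Agent.H122.Cyc.rowS_twf4 hp2 h
    · exact rowS_of_nc_or (Cfsg.Agent.H123.SpAll.tits hp2 h)
  · exact rowS_of_nc_or (Cfsg.Agent.H123.SpAll.spor hp2 h)

theorem row_of_rowS {G : Type u} [Group G] [Finite G] [IsSimpleGroup G]
    (hS : ∀ (X : Type u) [Group X] [Finite X] [IsSimpleGroup X], IsKnownSimple' X) (hna : ¬ IsMulCommutative G) {p : ℕ}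
    [hp : Fact p.Prime] (hp2 : p ≠ 2) (hL : ¬ IsL2 p G) (h : RowS p G) : Row p G := by
  intro P hP
  obtain ⟨k, hk⟩ := IsPGroup.iff_card.1 P.2
  rcases (show k = 0 ∨ k = 1 ∨ 2 ≤ k by omega) with rfl | rfl | hk2
  · rw [hk, pow_zero]
    exact (minDeg_one G).mono (by omega)
  · rw [hk, pow_one]
    exact prime_all hS hna hp2 P (hk.trans (pow_one p)) hL
  · refine h P hP ?_
    rw [hk]
    exact pow_dvd_pow p hk2

/-- the statement -/
theorem main {G : Type u} [Group G] [Finite G] [IsSimpleGroup G]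
    (hS : ∀ (X : Type u) [Group X] [Finite X] [IsSimpleGroup X], IsKnownSimple' X) (hG : ¬ IsMulCommutative G) {p : ℕ}
    [hp : Fact p.Prime] (P : Sylow p G) (hP : IsCyclic P)
    (χ : G → ℂ) (hχ : Cfsg.IsIrrCharacter G χ) (h1 : χ ≠ fun _ => 1) :
    IsL2 p G ∨ ∃ d : ℕ, χ 1 = d ∧ Nat.card P ≤ d + 2 := by
  by_cases hL : IsL2 p G
  · exact Or.inl hL
  right
  obtain ⟨n, σ, hσ, rfl⟩ := hχ
  refine ⟨n, apply_one_fin σ, ?_⟩
  by_cases hd : p ∣ Nat.card G
  swap
  · obtain ⟨a, ha⟩ := IsPGroup.iff_card.1 P.2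
    have h2 : a = 0 := by
      by_contra h
      exact hd ((dvd_pow_self p h).trans (ha ▸ Subgroup.card_subgroup_dvd_card _))
    have h3 : Nat.card P = 1 := by rw [← pow_zero p, ← h2]; exact ha
    omega
  have hp2 : p ≠ 2 := by
    rintro rfl
    exact Cfsg.Agent.SmallSimple.EvenOrder.not_isCyclic_sylow_two hG hd P hP
  -- the representation is not trivial
  have hne : ∃ g, σ g ≠ 1 := by
    by_cases hn2 : 2 ≤ n
    · exact exists_ne_one' σ hσ hn2
    · by_contra hcon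
      push Not at hcon
      obtain ⟨m, hm, hm1⟩ := Cfsg.Agent.Characters.Core.isIrr_apply_one ⟨n, σ, hσ, rfl⟩
      have hmn : n = m := by
        rw [apply_one_fin] at hm1
        exact_mod_cast hm1
      have hn : n = 1 := by omega
      subst hn
      apply h1
      funext g
      have e1 : σ.character g = σ.character 1 := by
        show LinearMap.trace ℂ _ (σ g) = LinearMap.trace ℂ _ (σ 1)
        rw [hcon g, hcon 1]
      rw [e1, apply_one_fin]
      norm_num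
  have h2 := row_of_rowS hS hG hp2 hL (rowS_all hG hp2 (hS G)) P hP (Fin n → ℂ) σ hne
  rw [finrank_fin_fun] at h2
  have h3 : Nat.card P = Nat.card (P : Subgroup G) := rfl
  omega

end Cfsg.Agent.H121.Cyc
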