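import Cfsg.Agent.H121.Cyc.Spor
import Cfsg.Agent.H655.MainTheorem
import Cfsg.Agent.H655.Elim
import Cfsg.Agent.H655.Cases
import Cfsg.Agent.H655.StProv
import Cfsg.Agent.OrdDiv.Table
import Cfsg.Agent.S0255
import Cfsg.Agent.H123.AltRow

/-!
# Sylow subgroups of prime order in S2351

`prime_all` : `|P| = p ≠ 2`, `G ≇ PSL₂(p)`: every nontrivial complex representation has degree at least `p - 2`.
For `p > 7` this is Feit's theorem (helper655); `p = 7` (degree 4) by the case list.
-/

set_option autoImplicit false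
set_option linter.unusedSectionVars false

namespace Cfsg.Agent.H121.Cyc

open Module Subgroup Cfsg Cfsg.Agent.H122
open Cfsg.Agent.OrdDiv (Grp Real OrderTable)
open Cfsg.Agent.H655.Numbers Cfsg.Agent.H655.Spor
open Cfsg.Agent.H655.Cases (Out)

universe u

/-- `G ≅ PSL₂(p)` -/
def IsL2 (p : ℕ) (G : Type*) [Group G] : Prop :=
  ∃ (F : Type) (_ : Field F) (_ : Fintype F), Fintype.card F = p ∧
    Nonempty (G ≃* Matrix.ProjectiveSpecialLinearGroup (Fin 2) F)

theorem charDegree_eq {G : Type*} [Group G] {n : ℕ} (σ : Representation ℂ G (Fin n → ℂ)) :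
    charDegree σ.character = n := by
  unfold charDegree
  rw [apply_one_fin, Complex.natCast_re, Nat.floor_natCast]

theorem faithful_char {G : Type*} [Group G] [Finite G] [IsSimpleGroup G] {n : ℕ} (σ : Representation ℂ G (Fin n → ℂ))
    (hne : ∃ g, σ g ≠ 1) (g : G) (hg : σ.character g = σ.character 1) : g = 1 := by
  by_contra hg1
  have h1 : σ g = 1 := by
    rw [Representation.char_one] at hg
    exact (Cfsg.Agent.Characters.Values.character_eq_finrank_iff σ g).1 hg
  exact Cfsg.Agent.H121.Chr.faithful σ hne hg1 h1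

/-- no simple group with `|P| = 7` has a representation of degree 4 -/
theorem seven_four {G : Type u} [Group G] [Finite G] [IsSimpleGroup G]
    (hS : ∀ (X : Type u) [Group X] [Finite X] [IsSimpleGroup X], IsKnownSimple' X) (hna : ¬ IsMulCommutative G)
    [hp : Fact (Nat.Prime 7)] (P : Sylow 7 G) (hP : Nat.card P = 7) (hL : ¬ IsL2 7 G)
    (σ : Representation ℂ G (Fin 4 → ℂ)) (hσ : σ.IsIrreducible) : False := by
  have hne := exists_ne_one' σ hσ (by norm_num)
  rcases small hna le_rfl P hP σ hσ hne (by norm_num) with h | ⟨E, t, hE, hnum⟩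
  · exact hL ⟨ZMod 7, inferInstance, inferInstance, ZMod.card 7, h⟩
  obtain rfl : E = 3 := by omega
  let e := quoEquiv hna
  have hsim : IsSimpleGroup (G ⧸ center G) := e.symm.isSimpleGroup
  have hna' : ¬ ∀ a b : G ⧸ center G, a * b = b * a := by
    intro h
    apply hna
    refine ⟨⟨fun a b => e.injective ?_⟩⟩
    rw [map_mul, map_mul, h]
  have hd7 : 7 ∣ Nat.card G := hP ▸ Subgroup.card_subgroup_dvd_card (P : Subgroup G)
  have hd49 : ¬ 7 ^ 2 ∣ Nat.card G := by
    intro h
    have h1 := P.card_eq_multiplicity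
    rw [hP] at h1
    have h2 : 2 ≤ (Nat.card G).factorization 7 :=
      (Nat.Prime.pow_dvd_iff_le_factorization hp.out Nat.card_pos.ne').1 h
    have h3 : 7 ^ 2 ≤ 7 ^ (Nat.card G).factorization 7 := Nat.pow_le_pow_right (by norm_num) h2
    rw [← h1] at h3
    omega
  cases Cfsg.Agent.H655.Cases.cases OrdDiv.table (hS (G ⧸ center G)) hna'
    (fun r hr h => Cfsg.Agent.H655.StProv.hasSt r hr h) with
  | alt n hn e' =>
    obtain ⟨e'⟩ := e'
    have h1 := Cfsg.Agent.H123.AltRow.row_alt (p := 7) (G := G) (by norm_num) ⟨n, hn, ⟨e.trans e'⟩⟩ P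
      (isCyclic_of_prime_card hP) (Fin 4 → ℂ) σ hne
    have hP' : Nat.card (P : Subgroup G) = 7 := hP
    rw [hP', finrank_fin_fun] at h1
    omega
  | spor x hx hr hc =>
    have hcG : Nat.card G = x.2 := by rw [← hc]; exact Nat.card_congr e.toEquiv
    have h1 := mem_finL hna hx hcG (p := 7) (by decide) hd7 hd49 σ hσ (by norm_num) (by norm_num)
    simp only [finL, List.mem_cons, Prod.mk.injEq, List.not_mem_nil, or_false] at h1
    omega
  | psl2 F instF instFF hF r f hr hf hq hch st e' hc =>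
    obtain ⟨e'⟩ := e'
    rcases Cfsg.Agent.H655.Elim.psl2 hnum hF hr hf hq st hc with ⟨h1, -⟩ | ⟨h1, -, m, h2, h3⟩
    · exact hL ⟨F, instF, instFF, h1, ⟨e.trans e'⟩⟩
    · norm_num at h1
      set q := Fintype.card F
      clear_value q
      interval_cases q <;> simp at h2 h3 <;> omega
  | psl3 F instF instFF r f hr hf hq hch st e' hc =>
    obtain ⟨e'⟩ := e'
    obtain ⟨h1, m, h2, h3⟩ := Cfsg.Agent.H655.Elim.psl3 hnum hr hf hq st hc
    norm_num at h1
    have h4 : Fintype.card F = 2 := by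
      have h5 : 1 < Fintype.card F := Fintype.one_lt_card
      have h6 : Fintype.card F < 3 := by
        by_contra h6
        have h7 : 3 ^ 3 ≤ Fintype.card F ^ 3 := Nat.pow_le_pow_left (by omega) 3
        omega
      omega
    obtain ⟨e2⟩ := S0255.result (F := ZMod 7) (K := F) (ZMod.card 7) h4
    exact hL ⟨ZMod 7, inferInstance, inferInstance, ZMod.card 7, ⟨(e.trans e').trans e2.symm⟩⟩
  | psu3 F instF instFF q r f hq3 hr hf hq hF hch st e' hc =>
    obtain ⟨h1, -⟩ := Cfsg.Agent.H655.Elim.psu3 hnum hq3 hr hf hq st hc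
    have h7 : 3 ^ 3 ≤ q ^ 3 := Nat.pow_le_pow_left (by omega) 3
    norm_num at h1
    omega
  | sz F instF instFF m hm hF st e' hc => exact Cfsg.Agent.H655.Elim.not_sz hnum hm st hc
  | big r q N hb => exact Cfsg.Agent.H655.Elim.not_big hnum hb

/-- **Sylow subgroups of prime order.** -/
theorem prime_all {G : Type u} [Group G] [Finite G] [IsSimpleGroup G]
    (hS : ∀ (X : Type u) [Group X] [Finite X] [IsSimpleGroup X], IsKnownSimple' X) (hna : ¬ IsMulCommutative G) {p : ℕ}
    [hp : Fact p.Prime] (hp2 : p ≠ 2) (P : Sylow p G) (hP : Nat.card P = p) (hL : ¬ IsL2 p G) : MinDeg G (p - 2) := by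
  have hL' : ¬ Nonempty (G ≃* Matrix.ProjectiveSpecialLinearGroup (Fin 2) (ZMod p)) := fun h =>
    hL ⟨ZMod p, inferInstance, inferInstance, ZMod.card p, h⟩
  refine minDeg_prime hna hp2 P hP hL' fun h7 n σ hσ hn2 hn => ?_
  have hne := exists_ne_one' σ hσ hn2
  rcases Nat.lt_or_ge 7 p with h8 | h8
  · rcases Cfsg.Agent.H655.MainTheorem.s4703 hS h8 P hP (not_normal hna P hP) σ.character ⟨n, σ, hσ, rfl⟩
      (faithful_char σ hne) with ⟨⟨F, i1, i2, hF, ⟨e⟩⟩, -⟩ | h
    · exact hL ⟨F, i1, i2, hF, ⟨(quoEquiv hna).trans e⟩⟩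
    · rw [charDegree_eq] at h
      omega
  · obtain rfl : p = 7 := by omega
    rcases (show 2 * n < 7 ∨ n = 4 by omega) with h | rfl
    · exact hL' (half hna P hP σ hne h)
    · exact seven_four hS hna P hP hL σ hσ

end Cfsg.Agent.H121.Cyc
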