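import Cfsg.Agent.H121.Cyc.Base
import Cfsg.Agent.H121.Chr
import Cfsg.Agent.KFacts.Ru.Core
import Cfsg.Agent.RuB.Core

/-!
# Rudvalis: every nontrivial complex representation has degree at least 28 (S2351)

`V × Z`, `V` the four-group and `Z` the centre of a Sylow 2-subgroup of `Sz(8)`: the 28 characters of `V × Z` nontrivial
on `Z` are conjugate.
-/

set_option autoImplicit false
set_option linter.unusedSectionVars false

namespace Cfsg.Agent.H121.Cyc.Ru

open Module Cfsg Cfsg.Agent.H122 Cfsg.Agent.RuB Cfsg.Agent.H121.Wt Cfsg.Agent.H121.Chr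

/-- a retraction of `emb` -/
def ret (x : K8) : A4 := ((x.val.1 : ZMod 2), ((x.val.1 / 2 : ℕ) : ZMod 2))

theorem ret_add : ∀ a b : K8, ret (a + b) = ret a + ret b := by decide +kernel

theorem ret_zero : ret 0 = 0 := by decide +kernel

theorem ret_emb : ∀ a : A4, ret (emb a) = a := by decide +kernel

/-- every character of the four-group is `a ↦ ψ (c * emb a)` -/
theorem exists_c {ψ : AddChar K8 ℂ} (hψ : ψ ≠ 1) (l : AddChar A4 ℂ) : ∃ c : K8, ∀ a, l a = ψ (c * emb a) := by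
  let φ : AddChar K8 ℂ :=
    { toFun := fun x => l (ret x)
      map_zero_eq_one' := by rw [ret_zero, AddChar.map_zero_eq_one]
      map_add_eq_mul' := fun a b => by rw [ret_add, AddChar.map_add_eq_mul] }
  obtain ⟨c, hc⟩ := exists_mulShift hψ φ
  refine ⟨c, fun a => ?_⟩
  rw [← hc]
  show l a = l (ret (emb a))
  rw [ret_emb]

variable {G : Type*} [Group G] (C : Core G)

/-- the subgroup `V × Z` -/
def x (a : A4 × K8) : G := C.v a.1 * C.z a.2

theorem x_add (a b : A4 × K8) : x C (a + b) = x C a * x C b := by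
  unfold x
  rw [Prod.fst_add, Prod.snd_add, C.v_add, C.z_add]
  calc C.v a.1 * C.v b.1 * (C.z a.2 * C.z b.2) = C.v a.1 * (C.v b.1 * C.z a.2) * C.z b.2 := by group
    _ = C.v a.1 * (C.z a.2 * C.v b.1) * C.z b.2 := by rw [C.v_z_comm]
    _ = _ := by group

variable {W : Type*} [AddCommGroup W] [Module ℂ W] [FiniteDimensional ℂ W] (ρ : Representation ℂ G W)

/-- the action of the growth elements -/
theorem wt_grow {ψ : AddChar K8 ℂ} (hψ : ψ ≠ 1) (μ μ' : AddChar A4 ℂ) :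
    finrank ℂ (wt (fun a => ρ (x C a)) (pc μ ψ)) = finrank ℂ (wt (fun a => ρ (x C a)) (pc μ' ψ)) := by
  obtain ⟨c, hc⟩ := exists_c hψ (μ * μ'⁻¹)
  obtain ⟨g, hg1, hg2⟩ := C.grow c
  have hadd : ∀ a : K8, a + a = 0 := K8.add_self
  refine finrank_wt_eq ρ (g := g) (f := fun p : A4 × K8 => (p.1, p.2 + c * emb p.1)) ?_ ?_ ?_
  · rintro ⟨a, b⟩
    unfold x
    have h1 : g * C.v a = C.v a * C.z (c * emb a) * g := by
      have e : C.v a * C.z (c * emb a) = g * C.v a * g⁻¹ := (hg2 a).symm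
      rw [e]
      group
    have h2 : g * C.z b = C.z b * g := hg1 b
    have h3 : C.z (b + c * emb a) = C.z (c * emb a) * C.z b := by rw [C.z_add, C.z_comm]
    show g * (C.v a * C.z b) = C.v a * C.z (b + c * emb a) * g
    rw [h3]
    calc g * (C.v a * C.z b) = g * C.v a * C.z b := by group
      _ = C.v a * C.z (c * emb a) * (g * C.z b) := by rw [h1]; group
      _ = C.v a * C.z (c * emb a) * (C.z b * g) := by rw [h2]
      _ = _ := by group
  · apply Function.Involutive.bijective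
    rintro ⟨a, b⟩
    show (a, b + c * emb a + c * emb a) = (a, b)
    rw [add_assoc, hadd, add_zero]
  · rintro ⟨a, b⟩
    show μ' a * ψ (b + c * emb a) = μ a * ψ b
    rw [AddChar.map_add_eq_mul, ← hc a, AddChar.mul_apply, AddChar.inv_apply', mul_comm (μ a), ← mul_assoc, ← mul_assoc,
      mul_comm (μ' a * ψ b)]
    have h0 : μ' a ≠ 0 := ne_zero' μ' a
    field_simp

theorem wt_torus {ψ ψ' : AddChar K8 ℂ} (hψ : ψ ≠ 1) (hψ' : ψ' ≠ 1) (μ : AddChar A4 ℂ) :
    finrank ℂ (wt (fun a => ρ (x C a)) (pc μ ψ)) = finrank ℂ (wt (fun a => ρ (x C a)) (pc μ ψ')) := by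
  obtain ⟨t, ht⟩ := exists_mulShift hψ' ψ
  have ht0 : t ≠ 0 := by
    rintro rfl
    apply hψ
    ext y
    rw [ht, zero_mul, AddChar.map_zero_eq_one]
    rfl
  let k : K8ˣ := Units.mk0 (t ^ 2) (pow_ne_zero 2 ht0)
  have hk : (k : K8) ^ 4 = t := by
    show (t ^ 2) ^ 4 = t
    rw [← pow_mul]
    exact K8.pow_eight t
  refine finrank_wt_eq ρ (g := C.dk k) (f := fun p : A4 × K8 => (p.1, p.2 * (k : K8) ^ 4)) ?_ ?_ ?_
  · rintro ⟨a, b⟩
    unfold x
    show C.dk k * (C.v a * C.z b) = C.v a * C.z (b * (k : K8) ^ 4) * C.dk k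
    rw [← C.dk_z k b, ← mul_assoc, C.dk_v_comm]
    group
  · refine Function.bijective_iff_has_inverse.2 ⟨fun p => (p.1, p.2 * t⁻¹), ?_, ?_⟩
    · rintro ⟨a, b⟩
      show (a, b * (k : K8) ^ 4 * t⁻¹) = (a, b)
      rw [hk, mul_assoc, mul_inv_cancel₀ ht0, mul_one]
    · rintro ⟨a, b⟩
      show (a, b * t⁻¹ * (k : K8) ^ 4) = (a, b)
      rw [hk, mul_assoc, inv_mul_cancel₀ ht0, mul_one]
  · rintro ⟨a, b⟩
    show μ a * ψ' (b * (k : K8) ^ 4) = μ a * ψ b
    rw [hk, ht b, mul_comm b t]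

include C in
theorem minDeg [IsSimpleGroup G] : MinDeg G 28 := by
  classical
  intro W _ _ _ ρ hρ
  have hz1 : C.z 1 ≠ 1 := fun h => one_ne_zero (C.z_eq_one h)
  have hR : IsAct fun a => ρ (x C a) := isAct_of ρ (x_add C)
  have hx1 : x C (0, 1) = C.z 1 := by
    unfold x
    rw [C.v_zero, one_mul]
  obtain ⟨χ, hχ, hχ1⟩ := exists_wt hR (a := ((0, 1) : A4 × K8)) (by
    show ρ (x C (0, 1)) ≠ 1
    rw [hx1]
    exact faithful ρ hρ hz1)
  have hsc : sc χ ≠ 1 := by
    intro h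
    apply hχ1
    show sc χ 1 = 1
    rw [h]
    rfl
  have hpos : 1 ≤ finrank ℂ (wt (fun a => ρ (x C a)) (pc (fc χ) (sc χ))) := by
    rw [pc_fc_sc, Nat.one_le_iff_ne_zero]
    intro h
    exact hχ (Submodule.finrank_eq_zero.1 h)
  have hall : ∀ (μ : AddChar A4 ℂ) (ψ : AddChar K8 ℂ), ψ ≠ 1 →
      1 ≤ finrank ℂ (wt (fun a => ρ (x C a)) (pc μ ψ)) := by
    intro μ ψ hψ
    rw [wt_torus C ρ hψ hsc μ, wt_grow C ρ hsc μ (fc χ)]
    exact hpos
  let S : Finset (AddChar (A4 × K8) ℂ) :=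
    ((Finset.univ : Finset (AddChar A4 ℂ)) ×ˢ ((Finset.univ : Finset (AddChar K8 ℂ)).erase 1)).map pcEquiv.toEmbedding
  have hcS : S.card = 28 := by
    rw [Finset.card_map, Finset.card_product, Finset.card_erase_of_mem (Finset.mem_univ _), Finset.card_univ,
      Finset.card_univ]
    have e1 : Fintype.card (AddChar A4 ℂ) = 4 := by
      rw [card_addChar A4]
      rfl
    have e2 : Fintype.card (AddChar K8 ℂ) = 8 := by
      rw [card_addChar K8, K8.card]
    rw [e1, e2]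
  have h1 := mul_card_le hR S 1 (by
    intro ξ hξ
    obtain ⟨⟨μ, ψ⟩, hp, rfl⟩ := Finset.mem_map.1 hξ
    rw [Finset.mem_product, Finset.mem_erase] at hp
    exact hall μ ψ hp.2.1)
  rwa [one_mul, hcS] at h1

theorem ru {G : Type*} [Group G] [IsSimpleGroup G] (h : Spor.IsoRu G) : MinDeg G 28 := by
  obtain ⟨C, -⟩ := KFacts.Ru.exists_core h
  exact minDeg C

end Cfsg.Agent.H121.Cyc.Ru
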