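import Cfsg.Agent.H121.Cyc.Prime
import Cfsg.Agent.H655.Spor
import Cfsg.Agent.ClassicalGeometry.PSL2Basic

/-!
# Sporadic groups: Sylow subgroups of prime order (S2351)

`spor_row` : for a sporadic group (or the Tits group) and `p ∥ |G|` the bound `p ≤ d + 2` holds unless the group has an
irreducible representation of one of the degrees of the list `fin`.
-/

set_option autoImplicit false
set_option linter.unusedSectionVars false

namespace Cfsg.Agent.H121.Cyc

open Module Subgroup Cfsg Cfsg.Agent.H122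
open Cfsg.Agent.OrdDiv (Grp Real OrderTable)
open Cfsg.Agent.H655.Numbers Cfsg.Agent.H655.Spor

universe u

/-- the degrees which have to be excluded -/
def finL : List (Grp × ℕ) := [(.m11, 6), (.m12, 6), (.m22, 6), (.m23, 12), (.m24, 12), (.co1, 12), (.co2, 12),
  (.co3, 12), (.mcl, 6), (.hs, 6), (.he, 9), (.ru, 15), (.ly, 45), (.hn, 10)]

/-- the condition on a prime -/
def good (g : Grp) (N n q : ℕ) : Bool :=
  N % q != 0 || N % (q ^ 2) == 0 || decide (q ≤ n + 1) || surv.any fun y => decide (y.1 = g) && y.2.1 == q &&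
    n == q - y.2.2

theorem fin_all : ∀ x ∈ OrdDiv.spor, ∀ p ∈ L, ∀ n < p - 2, 2 ≤ n → x.2 % p = 0 → x.2 % (p ^ 2) ≠ 0 →
    (∀ q ∈ L, good x.1 x.2 n q = true) → (x.1, n) ∈ finL := by
  decide +kernel

theorem two_ne : ∀ x ∈ OrdDiv.spor, ∀ p ∈ L, x.2 * 2 ≠ p * (p ^ 2 - 1) := by
  decide +kernel

theorem not_psl {G : Type u} [Group G] {x : Grp × ℕ} (hx : x ∈ OrdDiv.spor) (hc : Nat.card G = x.2) {p : ℕ}
    [Fact p.Prime] (hp : p ∈ L) : ¬ Nonempty (G ≃* Matrix.ProjectiveSpecialLinearGroup (Fin 2) (ZMod p)) := by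
  rintro ⟨e⟩
  have hodd : Odd (Fintype.card (ZMod p)) := by
    rw [ZMod.card]
    have : ∀ p ∈ L, Odd p := by decide
    exact this p hp
  have h1 := Cfsg.Agent.ClassicalGeometry.PSL2Basic.card_PSL2_odd (ZMod p) hodd
  rw [← Nat.card_congr e.toEquiv, ZMod.card, hc] at h1
  exact two_ne x hx p hp h1

theorem mem_finL {G : Type u} [Group G] [Finite G] [IsSimpleGroup G] (hna : ¬ IsMulCommutative G) {x : Grp × ℕ}
    (hx : x ∈ OrdDiv.spor) (hc : Nat.card G = x.2) {p : ℕ} (hpL : p ∈ L) (hd : p ∣ Nat.card G)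
    (hd2 : ¬ p ^ 2 ∣ Nat.card G) {n : ℕ} (σ : Representation ℂ G (Fin n → ℂ)) (hσ : σ.IsIrreducible) (hn2 : 2 ≤ n)
    (hn : n < p - 2) : (x.1, n) ∈ finL := by
  refine fin_all x hx p hpL n hn hn2 (by rw [← hc]; exact Nat.mod_eq_zero_of_dvd hd)
    (fun h => hd2 (by rw [hc]; exact Nat.dvd_of_mod_eq_zero h)) fun q hq => ?_
  simp only [good, Bool.or_eq_true, bne_iff_ne, ne_eq, beq_iff_eq, decide_eq_true_eq, List.any_eq_true,
    Bool.and_eq_true]
  by_cases h1 : x.2 % q = 0
  · by_cases h2 : x.2 % (q ^ 2) = 0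
    · exact Or.inl (Or.inl (Or.inr h2))
    · by_cases h3 : q ≤ n + 1
      · exact Or.inl (Or.inr h3)
      · right
        have hqp := prime_L q hq
        have := Fact.mk hqp
        obtain ⟨Q⟩ : Nonempty (Sylow q G) := inferInstance
        have hQ : Nat.card Q = q := card_of_dvd (by rw [hc]; exact Nat.dvd_of_mod_eq_zero h1)
          (fun h => h2 (by rw [← hc]; exact Nat.mod_eq_zero_of_dvd h)) Q
        have hq7 : 7 ≤ q := by
          have : ∀ q ∈ L, 7 ≤ q := by decide
          exact this q hq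
        rcases small hna hq7 Q hQ σ hσ (exists_ne_one' σ hσ hn2) (by omega) with h4 | ⟨E, t, h4, h5⟩
        · exact absurd h4 (not_psl hx hc hq)
        · refine ⟨(x.1, q, E), ?_, ⟨rfl, rfl⟩, h4⟩
          exact mem_surv h5 hq7 hx (by rw [← Nat.card_congr (quoEquiv hna).toEquiv, hc])
  · exact Or.inl (Or.inl (Or.inl h1))

/-- **The sporadic groups.** -/
theorem spor_row {G : Type u} [Group G] [Finite G] [IsSimpleGroup G] (hna : ¬ IsMulCommutative G) {x : Grp × ℕ}
    (hx : x ∈ OrdDiv.spor) (hc : Nat.card G = x.2) (hfin : ∀ n, (x.1, n) ∈ finL → MinDeg G (n + 1)) {p : ℕ}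
    [hp : Fact p.Prime] (hp2 : p ≠ 2) (hd2 : ¬ p ^ 2 ∣ Nat.card G) : Row p G := by
  intro P _
  by_cases hd : p ∣ Nat.card G
  · have hP : Nat.card P = p := card_of_dvd hd hd2 P
    have hP' : Nat.card (P : Subgroup G) = p := hP
    rw [hP']
    have h71 : p < 72 := by
      have h1 : p ∣ Nat.factorial 71 := (hc ▸ hd).trans (dvd_fact x hx)
      have := (hp.out.dvd_factorial).1 h1
      omega
    refine minDeg_prime hna hp2 P hP ?_ fun h7 n σ hσ hn2 hn => ?_
    · by_cases h7 : 7 ≤ p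
      · exact not_psl hx hc (mem_L p h71 h7 hp.out)
      · rintro ⟨e⟩
        have hodd : Odd (Fintype.card (ZMod p)) := by
          rw [ZMod.card]
          exact hp.out.odd_of_ne_two hp2
        have h1 := Cfsg.Agent.ClassicalGeometry.PSL2Basic.card_PSL2_odd (ZMod p) hodd
        rw [← Nat.card_congr e.toEquiv, ZMod.card, hc] at h1
        have h2 : ∀ x ∈ OrdDiv.spor, ∀ p < 7, x.2 * 2 ≠ p * (p ^ 2 - 1) := by decide +kernel
        exact h2 x hx p (by omega) h1
    · have h1 := mem_finL hna hx hc (mem_L p h71 h7 hp.out) hd hd2 σ hσ hn2 hn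
      have h2 := (hfin n h1) (Fin n → ℂ) σ (exists_ne_one' σ hσ hn2)
      rw [finrank_fin_fun] at h2
      omega
  · obtain ⟨a, ha⟩ := IsPGroup.iff_card.1 P.2
    have h1 : a = 0 := by
      by_contra h
      exact hd ((dvd_pow_self p h).trans (ha ▸ Subgroup.card_subgroup_dvd_card _))
    rw [ha, h1, pow_zero]
    exact (minDeg_one G).mono (by omega)

end Cfsg.Agent.H121.Cyc
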